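import Cfsg.Agent.T51.SuzMult.G.Check0
import Cfsg.Agent.T51.SuzMult.G.Check1
import Cfsg.Agent.T51.SuzMult.G.Check2
import Cfsg.Agent.T51.SuzMult.G.Check3
import Cfsg.Agent.T51.SuzMult.G.Check4
import Cfsg.Agent.T51.SuzMult.G.Check5
import Cfsg.Agent.T51.SuzMult.G.Check6

set_option autoImplicit false
set_option maxRecDepth 100000

namespace Cfsg.Agent.T51.SuzMult.G

open Cfsg.Agent.CosetEnum

theorem dok0 : allRange sys.checkDef 0 1024 = true := by decide +kernel

theorem dok1 : allRange sys.checkDef 1024 1024 = true := by decide +kernel

theorem dok2 : allRange sys.checkDef 2048 1024 = true := by decide +kernel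

theorem dok3 : allRange sys.checkDef 3072 1024 = true := by decide +kernel

theorem dok4 : allRange sys.checkDef 4096 1024 = true := by decide +kernel

theorem dok5 : allRange sys.checkDef 5120 1024 = true := by decide +kernel

theorem dok6 : allRange sys.checkDef 6144 1024 = true := by decide +kernel

theorem dok7 : allRange sys.checkDef 7168 1024 = true := by decide +kernel

theorem dok8 : allRange sys.checkDef 8192 1024 = true := by decide +kernel

theorem dok9 : allRange sys.checkDef 9216 1024 = true := by decide +kernel

theorem dok10 : allRange sys.checkDef 10240 1024 = true := by decide +kernel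

theorem dok11 : allRange sys.checkDef 11264 1024 = true := by decide +kernel

theorem dok12 : allRange sys.checkDef 12288 1024 = true := by decide +kernel

theorem dok13 : allRange sys.checkDef 13312 1024 = true := by decide +kernel

theorem dok14 : allRange sys.checkDef 14336 1024 = true := by decide +kernel

theorem dok15 : allRange sys.checkDef 15360 1024 = true := by decide +kernel

theorem dok16 : allRange sys.checkDef 16384 1024 = true := by decide +kernel

theorem dok17 : allRange sys.checkDef 17408 1024 = true := by decide +kernel

theorem dok18 : allRange sys.checkDef 18432 1024 = true := by decide +kernel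

theorem dok19 : allRange sys.checkDef 19456 1024 = true := by decide +kernel

theorem dok20 : allRange sys.checkDef 20480 1024 = true := by decide +kernel

theorem dok21 : allRange sys.checkDef 21504 1024 = true := by decide +kernel

theorem dok22 : allRange sys.checkDef 22528 1024 = true := by decide +kernel

theorem dok23 : allRange sys.checkDef 23552 1024 = true := by decide +kernel

theorem dok24 : allRange sys.checkDef 24576 387 = true := by decide +kernel

def fchunks : List (ℕ × ℕ) := [(128, fv0), (128, fv1), (128, fv2), (128, fv3), (128, fv4), (128, fv5), (128, fv6), (128, fv7), (128, fv8), (128, fv9), (128, fv10), (128, fv11), (128, fv12), (128, fv13), (128, fv14), (128, fv15), (128, fv16), (128, fv17), (128, fv18), (128, fv19), (128, fv20), (128, fv21), (128, fv22), (128, fv23), (128, fv24), (128, fv25), (128, fv26), (128, fv27), (128, fv28), (128, fv29), (128, fv30), (128, fv31), (128, fv32), (128, fv33), (128, fv34), (128, fv35), (128, fv36), (128, fv37), (128, fv38), (128, fv39), (128, fv40), (128, fv41), (128, fv42), (128, fv43), (128, fv44), (128, fv45), (128, fv46), (128, fv47), (128, fv48), (128, fv49), (128,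 fv50), (128, fv51), (128, fv52), (128, fv53), (128, fv54), (128, fv55), (128, fv56), (128, fv57), (128, fv58), (128, fv59), (128, fv60), (128, fv61), (128, fv62), (128, fv63), (128, fv64), (128, fv65), (128, fv66), (128, fv67), (128, fv68), (128, fv69), (128, fv70), (128, fv71), (128, fv72), (128, fv73), (128, fv74), (128, fv75), (128, fv76), (128, fv77), (128, fv78), (128, fv79), (128, fv80), (128, fv81), (128, fv82), (128, fv83), (128, fv84), (128, fv85), (128, fv86), (128, fv87), (128, fv88), (128, fv89), (128, fv90), (128, fv91), (128, fv92), (128, fv93), (128, fv94), (128, fv95), (128, fv96), (128, fv97), (128, fv98), (128, fv99), (128, fv100), (128, fv101), (128, fv102), (128, fv103), (128, fv104), (128, fv105), (128, fv106), (128, fv107), (128, fv108), (128, fv109), (128, fv110), (128, fv111), (128, fv112), (128, fv113), (128, fv114), (128, fv115), (128, fv116), (128, fv117), (128, fv118), (128, fv119), (128, fv120), (128, fv121), (128, fv122), (128, fv123), (128, fv124), (128, fv125), (128, fv126), (128, fv127), (128, fv128), (128, fv129), (128, fv130), (128, fv131), (128, fv132), (128, fv133), (128, fv134), (128, fv135),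 (128, fv136), (128, fv137), (128, fv138), (128, fv139), (128, fv140), (128, fv141), (128, fv142), (128, fv143), (128, fv144), (128, fv145), (128, fv146), (128, fv147), (128, fv148), (128, fv149), (128, fv150), (128, fv151), (128, fv152), (128, fv153), (128, fv154), (128, fv155), (128, fv156), (128, fv157), (128, fv158), (128, fv159), (128, fv160), (128, fv161), (128, fv162), (128, fv163), (128, fv164), (128, fv165), (128, fv166), (128, fv167), (128, fv168), (128, fv169), (128, fv170), (128, fv171), (128, fv172), (128, fv173), (128, fv174), (128, fv175), (128, fv176), (128, fv177), (128, fv178), (128, fv179), (128, fv180), (128, fv181), (128, fv182), (128, fv183), (128, fv184), (128, fv185), (128, fv186), (128, fv187), (128, fv188), (128, fv189), (128, fv190), (128, fv191), (128, fv192), (128, fv193), (128, fv194), (128, fv195), (128, fv196), (128, fv197), (128, fv198), (128, fv199), (128, fv200), (128, fv201), (128, fv202), (128, fv203), (128, fv204), (128, fv205), (128, fv206), (128, fv207), (128, fv208), (128, fv209), (128, fv210), (128, fv211), (128, fv212), (128, fv213), (128, fv214), (128, fv215), (128, fv216), (128, fv217),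 (128, fv218), (128, fv219), (128, fv220), (128, fv221), (128, fv222), (128, fv223), (128, fv224), (128, fv225), (128, fv226), (128, fv227), (128, fv228), (128, fv229), (128, fv230), (128, fv231), (128, fv232), (128, fv233), (128, fv234), (128, fv235), (128, fv236), (128, fv237), (128, fv238), (128, fv239), (128, fv240), (128, fv241), (128, fv242), (128, fv243), (128, fv244), (128, fv245), (128, fv246), (128, fv247), (128, fv248), (128, fv249), (128, fv250), (128, fv251), (128, fv252), (128, fv253), (128, fv254), (128, fv255), (128, fv256), (128, fv257), (128, fv258), (128, fv259), (128, fv260), (128, fv261), (128, fv262), (128, fv263), (128, fv264), (128, fv265), (128, fv266), (128, fv267), (128, fv268), (128, fv269), (128, fv270), (128, fv271), (128, fv272), (128, fv273), (128, fv274), (128, fv275), (128, fv276), (128, fv277), (128, fv278), (128, fv279), (128, fv280), (128, fv281), (128, fv282), (128, fv283), (128, fv284), (128, fv285), (128, fv286), (128, fv287), (128, fv288), (128, fv289), (128, fv290), (128, fv291), (128, fv292), (128, fv293), (128, fv294), (128, fv295), (128, fv296), (128, fv297), (128, fv298), (128, fv299),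 (128, fv300), (128, fv301), (128, fv302), (128, fv303), (128, fv304), (128, fv305), (128, fv306), (128, fv307), (128, fv308), (128, fv309), (128, fv310), (128, fv311), (128, fv312), (128, fv313), (128, fv314), (128, fv315), (128, fv316), (128, fv317), (128, fv318), (128, fv319), (128, fv320), (128, fv321), (128, fv322), (128, fv323), (128, fv324), (128, fv325), (128, fv326), (128, fv327), (128, fv328), (128, fv329), (128, fv330), (128, fv331), (128, fv332), (128, fv333), (128, fv334), (128, fv335), (128, fv336), (128, fv337), (128, fv338), (128, fv339), (128, fv340), (128, fv341), (128, fv342), (128, fv343), (128, fv344), (128, fv345), (29, fv346)]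

def rchunks : List (ℕ × ℕ) := [(64, rv0), (64, rv1), (64, rv2), (64, rv3), (64, rv4), (64, rv5), (64, rv6), (64, rv7), (64, rv8), (64, rv9), (64, rv10), (64, rv11), (64, rv12), (64, rv13), (64, rv14), (64, rv15), (64, rv16), (64, rv17), (64, rv18), (64, rv19), (64, rv20), (64, rv21), (64, rv22), (64, rv23), (64, rv24), (64, rv25), (64, rv26), (64, rv27), (64, rv28), (64, rv29), (64, rv30), (64, rv31), (64, rv32), (64, rv33), (64, rv34), (64, rv35), (64, rv36), (64, rv37), (64, rv38), (64, rv39), (64, rv40), (64, rv41), (64, rv42), (64, rv43), (64, rv44), (64, rv45), (64, rv46), (64, rv47), (64, rv48), (64, rv49), (64, rv50), (64, rv51), (64, rv52), (64, rv53), (64, rv54), (64, rv55), (64, rv56), (64, rv57), (64, rv58), (64, rv59), (64, rv60), (64, rv61), (64, rv62), (64, rv63), (64, rv64), (64, rv65), (64, rv66), (64, rv67), (64, rv68), (64, rv69), (64, rv70), (64, rv71), (64, rv72), (64, rv73), (64, rv74), (64, rv75), (64, rv76), (64, rv77), (64, rv78), (64, rv79), (64, rv80), (64, rv81), (64, rv82), (34, rv83)]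

theorem factsOK : sys.FactsOK 24963 fchunks := ⟨fok0, fok1, fok2, fok3, fok4, fok5, fok6, fok7, fok8, fok9, fok10, fok11, fok12, fok13, fok14, fok15, fok16, fok17, fok18, fok19, fok20, fok21, fok22, fok23, fok24, fok25, fok26, fok27, fok28, fok29, fok30, fok31, fok32, fok33, fok34, fok35, fok36, fok37, fok38, fok39, fok40, fok41, fok42, fok43, fok44, fok45, fok46, fok47, fok48, fok49, fok50, fok51, fok52, fok53, fok54, fok55, fok56, fok57, fok58, fok59, fok60, fok61, fok62, fok63, fok64, fok65, fok66, fok67, fok68, fok69, fok70, fok71, fok72, fok73, fok74, fok75, fok76, fok77, fok78, fok79, fok80, fok81, fok82, fok83, fok84, fok85, fok86, fok87, fok88, fok89, fok90, fok91, fok92, fok93, fok94, fok95, fok96, fok97, fok98, fok99, fok100, fok101, fok102, fok103, fok104, fok105, fok106, fok107, fok108, fok109, fok110, fok111, fok112, fok113, fok114, fok115, fok116, fok117, fok118, fok119, fok120, fok121, fok122, fok123, fok124, fok125, fok126, fok127, fok128, fok129, fok130, fok131, fok132, fok133, fok134, fok135, fok136, fok137, fok138, fok139, fok140, fok141, fok142, fok143, fok144, fok145, fok146, fok147, fok148, fok149, fok150,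 fok151, fok152, fok153, fok154, fok155, fok156, fok157, fok158, fok159, fok160, fok161, fok162, fok163, fok164, fok165, fok166, fok167, fok168, fok169, fok170, fok171, fok172, fok173, fok174, fok175, fok176, fok177, fok178, fok179, fok180, fok181, fok182, fok183, fok184, fok185, fok186, fok187, fok188, fok189, fok190, fok191, fok192, fok193, fok194, fok195, fok196, fok197, fok198, fok199, fok200, fok201, fok202, fok203, fok204, fok205, fok206, fok207, fok208, fok209, fok210, fok211, fok212, fok213, fok214, fok215, fok216, fok217, fok218, fok219, fok220, fok221, fok222, fok223, fok224, fok225, fok226, fok227, fok228, fok229, fok230, fok231, fok232, fok233, fok234, fok235, fok236, fok237, fok238, fok239, fok240, fok241, fok242, fok243, fok244, fok245, fok246, fok247, fok248, fok249, fok250, fok251, fok252, fok253, fok254, fok255, fok256, fok257, fok258, fok259, fok260, fok261, fok262, fok263, fok264, fok265, fok266, fok267, fok268, fok269, fok270, fok271, fok272, fok273, fok274, fok275, fok276, fok277, fok278, fok279, fok280, fok281, fok282, fok283, fok284, fok285, fok286, fok287, fok288, fok289, fok290, fok291, fok292, fok293,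 fok294, fok295, fok296, fok297, fok298, fok299, fok300, fok301, fok302, fok303, fok304, fok305, fok306, fok307, fok308, fok309, fok310, fok311, fok312, fok313, fok314, fok315, fok316, fok317, fok318, fok319, fok320, fok321, fok322, fok323, fok324, fok325, fok326, fok327, fok328, fok329, fok330, fok331, fok332, fok333, fok334, fok335, fok336, fok337, fok338, fok339, fok340, fok341, fok342, fok343, fok344, fok345, fok346, trivial⟩

theorem rowsOK : sys.RowsOK 5346 69280 0 rchunks := ⟨rok0, rok1, rok2, rok3, rok4, rok5, rok6, rok7, rok8, rok9, rok10, rok11, rok12, rok13, rok14, rok15, rok16, rok17, rok18, rok19, rok20, rok21, rok22, rok23, rok24, rok25, rok26, rok27, rok28, rok29, rok30, rok31, rok32, rok33, rok34, rok35, rok36, rok37, rok38, rok39, rok40, rok41, rok42, rok43, rok44, rok45, rok46, rok47, rok48, rok49, rok50, rok51, rok52, rok53, rok54, rok55, rok56, rok57, rok58, rok59, rok60, rok61, rok62, rok63, rok64, rok65, rok66, rok67, rok68, rok69, rok70, rok71, rok72, rok73, rok74, rok75, rok76, rok77, rok78, rok79, rok80, rok81, rok82, rok83, trivial⟩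

theorem cert : Cert sys 5346 24963 69280 :=
  Cert.of_chunks [1024,1024,1024,1024,1024,1024,1024,1024,1024,1024,1024,1024,1024,1024,1024,1024,1024,1024,1024,1024,1024,1024,1024,1024,387] fchunks rchunks (by decide) ⟨dok0, dok1, dok2, dok3, dok4, dok5, dok6, dok7, dok8, dok9, dok10, dok11, dok12, dok13, dok14, dok15, dok16, dok17, dok18, dok19, dok20, dok21, dok22, dok23, dok24, trivial⟩ (by decide +kernel) factsOK (by decide +kernel) rowsOK (by decide +kernel)

theorem rules_ok : sys.rules.all (fun R => R.check sys rels subs) = true := by decide +kernel

theorem inv_ok : allRange (fun l => Nat.beq (sys.inv l) l) 0 (sys.nl + 1) = true := by decide +kernel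

end Cfsg.Agent.T51.SuzMult.G
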